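import Groth.Agent.SigmaLinLib.Basic
import Groth.Agent.SigmaLinLib.AlgClosed
import Mathlib.LinearAlgebra.Trace
import Mathlib.LinearAlgebra.Projection
import Mathlib.RingTheory.Nilpotent.Lemmas
import Mathlib.RingTheory.Finiteness.Nilpotent

/-!
# The trace of an endomorphism commuting with a Frobenius-semilinear map
-/

set_option autoImplicit false
set_option linter.style.haveILetI false

universe u v

open Submodule

namespace Groth.Agent.FrobTrace

variable {K : Type u} [Field K] {E : Type v} [AddCommGroup E] [Module K E] [FiniteDimensional K E]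
  {σ : K →+* K} (T : E →ₛₗ[σ] E) (A : E →ₗ[K] E)

theorem iterate_comm (hA : ∀ y, T (A y) = A (T y)) (n : ℕ) (y : E) : (⇑T)^[n] (A y) = A ((⇑T)^[n] y) := by
  induction n generalizing y with
  | zero => rfl
  | succ n ih => rw [Function.iterate_succ_apply', ih, hA, Function.iterate_succ_apply']

/-- the trace is that of the restriction to the stable part -/
theorem trace_eq_restrict (hσ : Function.Surjective σ) (hA : ∀ y, T (A y) = A (T y))
    (hnil : ∀ y, (∃ n, (⇑T)^[n] y = 0) → ∃ j, (A ^ j) y = 0) :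
    ∃ hZ : ∀ z ∈ (⨅ i, SigmaLinLib.im T i : Submodule K E), A z ∈ (⨅ i, SigmaLinLib.im T i : Submodule K E),
      LinearMap.trace K E A = LinearMap.trace K _ (A.restrict hZ) := by
  obtain ⟨N, hN⟩ := SigmaLinLib.kerIter_stable T
  set Z : Submodule K E := ⨅ i, SigmaLinLib.im T i with hZdef
  let Y : Submodule K E := SigmaLinLib.kerIter T N
  have hc : IsCompl Z Y := by
    refine IsCompl.of_eq (eq_bot_iff.2 fun y hy => SigmaLinLib.eq_zero_of_mem_stable T hy.1 (n := N) hy.2)
      (eq_top_iff.2 fun y _ => ?_)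
    obtain ⟨w, z, rfl, hw, hz⟩ := SigmaLinLib.exists_split T hσ y
    rw [add_comm]
    exact add_mem_sup hz (hN w hw)
  have hYA : ∀ y ∈ Y, A y ∈ Y := fun y hy => by
    show (⇑T)^[N] (A y) = 0
    rw [iterate_comm T A hA, show (⇑T)^[N] y = 0 from hy, map_zero]
  have hZA : ∀ z ∈ Z, A z ∈ Z := fun z hz => by
    rw [hZdef, Submodule.mem_iInf] at hz ⊢
    intro i
    obtain ⟨w, rfl⟩ := (SigmaLinLib.mem_im_iff T hσ i z).1 (hz i)
    rw [← iterate_comm T A hA]
    exact subset_span ⟨_, rfl⟩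
  refine ⟨hZA, ?_⟩
  let Pz : E →ₗ[K] Z := Z.projectionOnto Y hc
  let Py : E →ₗ[K] Y := Y.projectionOnto Z hc.symm
  have hsum : A = (A ∘ₗ Z.subtype) ∘ₗ Pz + (A ∘ₗ Y.subtype) ∘ₗ Py := LinearMap.ext fun y => by
    show A y = A (Pz y : E) + A (Py y : E)
    rw [← map_add]
    exact congrArg A (Submodule.projection_add_projection_eq_self hc y).symm
  have hN' : IsNilpotent (A.restrict hYA : Module.End K Y) := by
    rw [Module.End.isNilpotent_iff_of_finite]
    intro y
    obtain ⟨j, hj⟩ := hnil y ⟨N, y.2⟩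
    refine ⟨j, Subtype.ext ?_⟩
    rw [Module.End.pow_restrict j, LinearMap.restrict_apply]
    exact hj
  have hy : LinearMap.trace K E ((A ∘ₗ Y.subtype) ∘ₗ Py) = LinearMap.trace K Y (A.restrict hYA) := by
    rw [LinearMap.trace_comp_comm']
    congr 1
    exact LinearMap.ext fun z => Submodule.projectionOnto_apply_left hc.symm ⟨A z, hYA z z.2⟩
  have hz : LinearMap.trace K E ((A ∘ₗ Z.subtype) ∘ₗ Pz) = LinearMap.trace K Z (A.restrict hZA) := by
    rw [LinearMap.trace_comp_comm']
    congr 1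
    exact LinearMap.ext fun z => Submodule.projectionOnto_apply_left hc ⟨A z, hZA z z.2⟩
  conv_lhs => rw [hsum]
  rw [map_add, hy, hz, (LinearMap.isNilpotent_trace_of_isNilpotent hN').eq_zero, add_zero]

/-- an independent family of fixed vectors spanning all fixed vectors and computing the trace -/
theorem exists_fixed_trace [IsAlgClosed K] (p : ℕ) [Fact p.Prime] [CharP K p] (S : E →ₛₗ[frobenius K p] E)
    (hA : ∀ y, S (A y) = A (S y)) (hnil : ∀ y, (∃ n, (⇑S)^[n] y = 0) → ∃ j, (A ^ j) y = 0) :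
    ∃ (n : ℕ) (b : Fin n → E), LinearIndependent K b ∧ (∀ i, S (b i) = b i) ∧
      (∀ y, S y = y → ∃ d : Fin n → K, (∀ i, d i ^ p = d i) ∧ y = ∑ i, d i • b i) ∧
      ∀ c : Fin n → Fin n → K, (∀ i, A (b i) = ∑ j, c i j • b j) → LinearMap.trace K E A = ∑ i, c i i := by
  obtain ⟨hZ, htr⟩ := trace_eq_restrict S A (PerfectRing.bijective_frobenius (R := K) (p := p)).2 hA hnil
  let SZ : (⨅ i, SigmaLinLib.im S i : Submodule K E) →ₛₗ[frobenius K p] (⨅ i, SigmaLinLib.im S i : Submodule K E) :=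
    SigmaLinLib.res S _ fun _ => SigmaLinLib.map_mem_stable S
  obtain ⟨b, hb⟩ := SigmaLinLib.exists_basis_fixed SZ (SigmaLinLib.span_fixed_eq_top SZ
    (SigmaLinLib.span_range_res_stable S) (fun n c hc => SigmaLinLib.frob_fixed_eq p n c hc)
    (SigmaLinLib.frob_sub_eq p))
  refine ⟨_, fun i => (b i : E), b.linearIndependent.map' _ (Submodule.ker_subtype _),
    fun i => congrArg Subtype.val (hb i), fun y hy => ?_, fun c hc => ?_⟩
  · have hyZ : y ∈ (⨅ i, SigmaLinLib.im S i : Submodule K E) := by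
      rw [Submodule.mem_iInf]
      exact fun i => subset_span ⟨y, Function.iterate_fixed hy i⟩
    refine ⟨fun i => b.repr ⟨y, hyZ⟩ i, fun i => ?_, ?_⟩
    · have e2 : (⟨y, hyZ⟩ : (⨅ i, SigmaLinLib.im S i : Submodule K E)) =
          ∑ j, b.repr ⟨y, hyZ⟩ j ^ p • b j := by
        refine (show (⟨y, hyZ⟩ : (⨅ i, SigmaLinLib.im S i : Submodule K E)) = SZ ⟨y, hyZ⟩ from
          Subtype.ext hy.symm).trans ?_
        conv_lhs => rw [← b.sum_repr ⟨y, hyZ⟩]
        rw [map_sum]
        exact Finset.sum_congr rfl fun j _ => by rw [map_smulₛₗ, hb, frobenius_def]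
      conv_rhs => rw [e2, b.repr_sum_self]
    · have h := congrArg Subtype.val (b.sum_repr ⟨y, hyZ⟩)
      simp only [Submodule.coe_sum, SetLike.val_smul] at h
      exact h.symm
  · rw [htr, LinearMap.trace_eq_matrix_trace _ b]
    simp only [Matrix.trace, Matrix.diag, LinearMap.toMatrix_apply]
    refine Finset.sum_congr rfl fun i _ => ?_
    have : A.restrict hZ (b i) = ∑ j, c i j • b j := by
      apply Subtype.ext
      rw [LinearMap.restrict_apply]
      simpa using hc i
    rw [this, b.repr_sum_self]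

end Groth.Agent.FrobTrace
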